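import Cfsg.Agent.H96.WeakClosedSep

/-!
helper96: the group `G₂(4)`: the three positive long roots (6, 10, 11) are not separated by the torus; commutators in
`U` replace the torus.
-/

set_option autoImplicit false

namespace Cfsg.Agent.H96.WeakClosed

open Cfsg.Lie Cfsg.Agent.ChevalleyStructure.Elts Cfsg.Agent.ChevalleyStructure
open Cfsg.Agent.ChevalleyStructure.UnipProd

universe u

variable {F : Type u} [Field F]

theorem inListG2 : InList chevG2 := by simp [InList]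

theorem ct_7_6 : chevG2.commTerms 7 6 = [(8, -1, 1, 1), (9, 1, 2, 1), (10, 1, 3, 1), (11, 1, 3, 2)] := by
  decide +kernel
theorem ct_7_8 : chevG2.commTerms 7 8 = [(9, -2, 1, 1), (10, -3, 2, 1), (11, 3, 1, 2)] := by decide +kernel
theorem ct_6_10 : chevG2.commTerms 6 10 = [(11, 1, 1, 1)] := by decide +kernel
theorem ct_6_11 : chevG2.commTerms 6 11 = [] := by decide +kernel
theorem ct_7_ge : ∀ c ∈ [8, 9, 10, 11], ∀ e ∈ chevG2.commTerms 7 c, 9 ≤ e.1 := by decide +kernel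
theorem pos_G2 : ∀ c ∈ [6, 7, 8, 9, 10, 11], chevG2.IsPosRoot c := by decide +kernel

theorem pos_iff_G2 (c : ℕ) : chevG2.IsPosRoot c ↔ 6 ≤ c ∧ c < 12 := UnipOrd.isPosRoot_iff inListG2 c

/-- `U` acts trivially on `U_c / U_{c+1}`. -/
theorem conj_top {D : ChevalleyDatum} (hD : InList D) {c : ℕ} (hc : D.IsPosRoot c) {g : GL D.Idx F}
    (hg : g ∈ D.posUnipotent F) (u : F) : (xG hD c u)⁻¹ * (g⁻¹ * xG hD c u * g) ∈ unipGE D F (c + 1) := by
  let K : Subgroup (GL D.Idx F) :=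
    { carrier := {g | g ∈ D.posUnipotent F ∧ (xG hD c u)⁻¹ * (g⁻¹ * xG hD c u * g) ∈ unipGE D F (c + 1)}
      one_mem' := ⟨one_mem _, by simp⟩
      mul_mem' := by
        rintro a b ⟨ha, ha'⟩ ⟨hb, hb'⟩
        refine ⟨mul_mem ha hb, ?_⟩
        have e : (xG hD c u)⁻¹ * ((a * b)⁻¹ * xG hD c u * (a * b)) =
            ((xG hD c u)⁻¹ * (b⁻¹ * xG hD c u * b)) *
              (b⁻¹ * ((xG hD c u)⁻¹ * (a⁻¹ * xG hD c u * a)) * b⁻¹⁻¹) := by group
        rw [e]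
        exact mul_mem hb' (conj_mem_of_mem_posUnipotent hD (inv_mem hb) ha')
      inv_mem' := by
        rintro a ⟨ha, ha'⟩
        refine ⟨inv_mem ha, ?_⟩
        have e : (xG hD c u)⁻¹ * (a⁻¹⁻¹ * xG hD c u * a⁻¹) =
            (a * ((xG hD c u)⁻¹ * (a⁻¹ * xG hD c u * a)) * a⁻¹)⁻¹ := by group
        rw [e]
        exact inv_mem (conj_mem_of_mem_posUnipotent hD ha ha') }
  have hle : D.posUnipotent F ≤ K := (posUnipotent_le_iff hD K).2 fun r hr s => by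
    refine ⟨xG_mem_posUnipotent hD hr s, ?_⟩
    by_cases h : c = r
    · subst h
      have : (xG hD c u)⁻¹ * ((xG hD c s)⁻¹ * xG hD c u * xG hD c s) = 1 := by
        rw [xG_inv, xG_inv, xG_add, xG_add, xG_add]
        have : -u + (-s + u + s) = 0 := by ring
        rw [this, xG_zero]
      rw [this]; exact one_mem _
    · have e := xG_comm (F := F) hD hr.1 hc.1 h (ne_neg_of_pos hD hr hc) s u
      have e2 : (xG hD c u)⁻¹ * ((xG hD r s)⁻¹ * xG hD c u * xG hD r s) =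
          wordG hD (D.commWord F r c s u) := by
        rw [mul_assoc (xG hD r s)⁻¹, e]
        group
      rw [e2]
      exact wordG_commWord_mem hD hr hc s u (Or.inr le_rfl)
  exact (hle hg).2

local notation "X₂" => xG (F := F) inListG2

/-- `[v, x_7(s)] ∈ U_9` for `v ∈ U_7`. -/
theorem comm_seven (s : F) {v : GL chevG2.Idx F} (hv : v ∈ unipGE chevG2 F 7) :
    v⁻¹ * (X₂ 7 s)⁻¹ * v * X₂ 7 s ∈ unipGE chevG2 F 9 := by
  have hgen : ∀ c, chevG2.IsPosRoot c → 7 ≤ c → ∀ u : F,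
      (X₂ 7 s)⁻¹ * X₂ c u * X₂ 7 s * (X₂ c u)⁻¹ ∈ unipGE chevG2 F 9 := by
    intro c hc h7 u
    have hc' := (pos_iff_G2 c).1 hc
    by_cases h : c = 7
    · subst h
      have : (X₂ 7 s)⁻¹ * X₂ 7 u * X₂ 7 s * (X₂ 7 u)⁻¹ = 1 := by
        rw [xG_inv, xG_inv, xG_add, xG_add, xG_add]
        have : -s + u + s + -u = 0 := by ring
        rw [this, xG_zero]
      rw [this]; exact one_mem _
    · have e := xG_comm (F := F) inListG2 (r := 7) (s := c) (by decide) hc.1 h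
        (ne_neg_of_pos inListG2 ((pos_iff_G2 7).2 (by omega)) hc) s u
      have hW : wordG inListG2 (chevG2.commWord F 7 c s u) ∈ unipGE chevG2 F 9 := by
        refine mem_of_xG_mem inListG2 fun p hp => ?_
        obtain ⟨c', hc1, hpc⟩ := UnipOrd.mem_commWord hp
        have h9 : 9 ≤ c'.1 := ct_7_ge c (by simp; omega) c' hc1
        have hlt := (UnipOrd.commTerms_ord inListG2 (r := 7) (s := c) (by decide) hc'.1 hc1).2.2
        rw [hpc]
        exact xG_mem_unipGE inListG2 ((pos_iff_G2 _).2 ⟨by omega, hlt⟩) h9 _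
      have e2 : (X₂ 7 s)⁻¹ * X₂ c u * X₂ 7 s * (X₂ c u)⁻¹ =
          X₂ c u * wordG inListG2 (chevG2.commWord F 7 c s u) * (X₂ c u)⁻¹ := by
        have e3 : X₂ c u * X₂ 7 s = X₂ 7 s * X₂ c u * wordG inListG2 (chevG2.commWord F 7 c s u) := e
        rw [mul_assoc (X₂ 7 s)⁻¹, e3]
        group
      rw [e2]
      exact conj_mem_of_mem_posUnipotent inListG2 (xG_mem_posUnipotent inListG2 hc u) hW
  -- `{v | x⁻¹ v x v⁻¹ ∈ U_9}` is a subgroup of `U`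
  let K : Subgroup (GL chevG2.Idx F) :=
    { carrier := {v | v ∈ chevG2.posUnipotent F ∧ (X₂ 7 s)⁻¹ * v * X₂ 7 s * v⁻¹ ∈ unipGE chevG2 F 9}
      one_mem' := ⟨one_mem _, by simp⟩
      mul_mem' := by
        rintro a b ⟨ha, ha'⟩ ⟨hb, hb'⟩
        refine ⟨mul_mem ha hb, ?_⟩
        have e : (X₂ 7 s)⁻¹ * (a * b) * X₂ 7 s * (a * b)⁻¹ =
            ((X₂ 7 s)⁻¹ * a * X₂ 7 s * a⁻¹) * (a * ((X₂ 7 s)⁻¹ * b * X₂ 7 s * b⁻¹) * a⁻¹) := by group
        rw [e]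
        exact mul_mem ha' (conj_mem_of_mem_posUnipotent inListG2 ha hb')
      inv_mem' := by
        rintro a ⟨ha, ha'⟩
        refine ⟨inv_mem ha, ?_⟩
        have e : (X₂ 7 s)⁻¹ * a⁻¹ * X₂ 7 s * a⁻¹⁻¹ =
            a⁻¹ * (a * ((X₂ 7 s)⁻¹ * a * X₂ 7 s)⁻¹) * a⁻¹⁻¹ := by group
        rw [e]
        refine conj_mem_of_mem_posUnipotent inListG2 (inv_mem ha) ?_
        have := inv_mem ha'
        rwa [mul_inv_rev, inv_inv] at this }
  have hle : unipGE chevG2 F 7 ≤ K := (unipGE_le_iff inListG2 7 K).2 fun c hc h7 u =>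
    ⟨xG_mem_posUnipotent inListG2 hc u, hgen c hc h7 u⟩
  have h1 := (hle hv).2
  have e : v⁻¹ * (X₂ 7 s)⁻¹ * v * X₂ 7 s = v⁻¹ * ((X₂ 7 s)⁻¹ * v * X₂ 7 s * v⁻¹) * v⁻¹⁻¹ := by group
  rw [e]
  exact conj_mem_of_mem_posUnipotent inListG2 (inv_mem (hle hv).1) h1

theorem lead_eleven {X : Subgroup (GL chevG2.Idx F)} (hU : ∀ r, chevG2.IsPosRoot r → ∀ t : F, Nrm X (X₂ r t))
    (hl : Lead inListG2 X 10) : Lead inListG2 X 11 := by
  obtain ⟨t, ht, v, hv, hX⟩ := hl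
  have p6 := (pos_iff_G2 6).2 (by omega)
  have p10 := (pos_iff_G2 10).2 (by omega)
  have p11 := (pos_iff_G2 11).2 (by omega)
  obtain ⟨w, v', hv', rfl⟩ := exists_of_mem_unipGE inListG2 p11 hv
  rw [unipGE_eq_bot inListG2 F (by decide), Subgroup.mem_bot] at hv'
  subst hv'
  rw [mul_one] at hX
  have e1 : X₂ 10 t * X₂ 6 1 = X₂ 6 1 * X₂ 10 t * X₂ 11 (-t) := by
    have := xG_comm (F := F) inListG2 (r := 6) (s := 10) p6.1 p10.1 (by decide) (ne_neg_of_pos inListG2 p6 p10) 1 t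
    have hw : chevG2.commWord F 6 10 1 t = [(11, -t)] := by
      show (chevG2.commTerms 6 10).map _ = _
      rw [ct_6_10]
      simp
    rw [hw, wordG_cons, wordG_nil, mul_one] at this
    exact this
  have e2 : X₂ 11 w * X₂ 6 1 = X₂ 6 1 * X₂ 11 w := by
    have := xG_comm (F := F) inListG2 (r := 6) (s := 11) p6.1 p11.1 (by decide) (ne_neg_of_pos inListG2 p6 p11) 1 w
    have hw : chevG2.commWord F 6 11 1 w = [] := by
      show (chevG2.commTerms 6 11).map _ = _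
      rw [ct_6_11]
      simp
    rw [hw, wordG_nil, mul_one] at this
    exact this
  have h1 := hU 6 p6 (-1) _ hX
  rw [xG_inv, neg_neg] at h1
  have h2 := mul_mem (inv_mem hX) h1
  refine ⟨-t, neg_ne_zero.2 ht, 1, one_mem _, ?_⟩
  rw [mul_one]
  have e3 : (X₂ 10 t * X₂ 11 w)⁻¹ * (X₂ 6 (-1) * (X₂ 10 t * X₂ 11 w) * X₂ 6 1) = X₂ 11 (-t) := by
    have e4 : X₂ 10 t * X₂ 11 w * X₂ 6 1 = X₂ 6 1 * (X₂ 10 t * X₂ 11 (-t) * X₂ 11 w) := by
      rw [mul_assoc, e2, ← mul_assoc, e1]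
      group
    have e5 : X₂ 6 (-1) = (X₂ 6 1)⁻¹ := by rw [xG_inv]
    rw [mul_assoc (X₂ 6 (-1)), e4, e5, inv_mul_cancel_left]
    have e6 : X₂ 11 (-t) * X₂ 11 w = X₂ 11 w * X₂ 11 (-t) := by rw [xG_add, xG_add, add_comm]
    rw [mul_assoc (X₂ 10 t), e6]
    group
  rwa [e3] at h2

theorem lead_eight {X : Subgroup (GL chevG2.Idx F)} (hU : ∀ r, chevG2.IsPosRoot r → ∀ t : F, Nrm X (X₂ r t))
    (hl : Lead inListG2 X 6) : Lead inListG2 X 8 := by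
  obtain ⟨t, ht, v, hv, hX⟩ := hl
  have p6 := (pos_iff_G2 6).2 (by omega)
  have p7 := (pos_iff_G2 7).2 (by omega)
  have e := xG_comm (F := F) inListG2 (r := 7) (s := 6) p7.1 p6.1 (by decide) (ne_neg_of_pos inListG2 p7 p6) 1 t
  have hw : chevG2.commWord F 7 6 1 t = (8, t) :: [(9, t), (10, -t), (11, -(t ^ 2))] := by
    show (chevG2.commTerms 7 6).map _ = _
    rw [ct_7_6]
    simp only [List.map_cons, List.map_nil]
    congr 2
    · push_cast; ring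
    congr 2
    · push_cast; ring
    congr 2
    · push_cast; ring
    congr 2
    · push_cast; ring
  rw [hw, wordG_cons] at e
  set W := wordG inListG2 [(9, t), (10, -t), (11, -(t ^ 2))] with hWdef
  have hW : W ∈ unipGE chevG2 F 9 := by
    refine mem_of_xG_mem inListG2 fun p hp => ?_
    simp only [List.mem_cons, List.not_mem_nil, or_false] at hp
    rcases hp with rfl | rfl | rfl
    · exact xG_mem_unipGE inListG2 (r := 9) ((pos_iff_G2 _).2 (by omega)) (by norm_num) _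
    · exact xG_mem_unipGE inListG2 (r := 10) ((pos_iff_G2 _).2 (by omega)) (by norm_num) _
    · exact xG_mem_unipGE inListG2 (r := 11) ((pos_iff_G2 _).2 (by omega)) (by norm_num) _
  have h1 := hU 7 p7 (-1) _ hX
  rw [xG_inv, neg_neg] at h1
  have h2 := mul_mem (inv_mem hX) h1
  -- `[x_6(t) v, x_7(1)] = v⁻¹ x_8(t) W v [v, x_7(1)]`
  have e5 : X₂ 7 (-1) = (X₂ 7 1)⁻¹ := by rw [xG_inv]
  have e3 : (X₂ 6 t * v)⁻¹ * (X₂ 7 (-1) * (X₂ 6 t * v) * X₂ 7 1) =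
      v⁻¹ * X₂ 8 t * v * ((v⁻¹ * W * v⁻¹⁻¹) * (v⁻¹ * (X₂ 7 1)⁻¹ * v * X₂ 7 1)) := by
    rw [e5]
    have e6 : (X₂ 7 1)⁻¹ * X₂ 6 t * X₂ 7 1 = X₂ 6 t * (X₂ 8 t * W) := by
      rw [mul_assoc, e]; group
    have e7 : (X₂ 7 1)⁻¹ * (X₂ 6 t * v) * X₂ 7 1 = ((X₂ 7 1)⁻¹ * X₂ 6 t * X₂ 7 1) * ((X₂ 7 1)⁻¹ * v * X₂ 7 1) := by
      group
    rw [e7, e6]
    group
  rw [e3] at h2
  have hvU : v ∈ chevG2.posUnipotent F := by
    rw [← unipGE_eq_posUnipotent inListG2 F (Nat.zero_le _)]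
    exact unipGE_antitone _ F (Nat.zero_le _) hv
  have h3 : (v⁻¹ * W * v⁻¹⁻¹) * (v⁻¹ * (X₂ 7 1)⁻¹ * v * X₂ 7 1) ∈ unipGE chevG2 F 9 :=
    mul_mem (conj_mem_of_mem_posUnipotent inListG2 (inv_mem hvU) hW) (comm_seven 1 hv)
  -- `v⁻¹ x_8(t) v ∈ x_8(t) U_9`
  have p8 := (pos_iff_G2 8).2 (by omega)
  have h4 := conj_top inListG2 p8 hvU t
  refine ⟨t, ht, _, mul_mem h4 h3, ?_⟩
  have e8 : X₂ 8 t * ((X₂ 8 t)⁻¹ * (v⁻¹ * X₂ 8 t * v) * ((v⁻¹ * W * v⁻¹⁻¹) * (v⁻¹ * (X₂ 7 1)⁻¹ * v * X₂ 7 1))) =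
      v⁻¹ * X₂ 8 t * v * ((v⁻¹ * W * v⁻¹⁻¹) * (v⁻¹ * (X₂ 7 1)⁻¹ * v * X₂ 7 1)) := by
    rw [mul_assoc, mul_inv_cancel_left]
  rw [e8]
  exact h2

/-- In characteristic two, if `X_8 ≤ X` then `X` has an element with leading root 10. -/
theorem lead_ten (h2 : (2 : F) = 0) {X : Subgroup (GL chevG2.Idx F)}
    (hU : ∀ r, chevG2.IsPosRoot r → ∀ t : F, Nrm X (X₂ r t)) (h8 : ∀ t : F, X₂ 8 t ∈ X) : Lead inListG2 X 10 := by
  have p7 := (pos_iff_G2 7).2 (by omega)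
  have p8 := (pos_iff_G2 8).2 (by omega)
  have p11 := (pos_iff_G2 11).2 (by omega)
  have e := xG_comm (F := F) inListG2 (r := 7) (s := 8) p7.1 p8.1 (by decide) (ne_neg_of_pos inListG2 p7 p8) 1 1
  have hw : chevG2.commWord F 7 8 1 1 = [(9, 0), (10, -3), (11, -3)] := by
    show (chevG2.commTerms 7 8).map _ = _
    rw [ct_7_8]
    simp only [List.map_cons, List.map_nil]
    congr 2
    · push_cast
      have : (-2 : F) * (-1) ^ 1 * 1 ^ 1 = 2 := by ring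
      rw [this, h2]
    congr 2
    · push_cast; ring
    congr 2
    · push_cast; ring
  rw [hw, wordG_cons, wordG_cons, wordG_cons, wordG_nil, mul_one] at e
  have h1 := hU 7 p7 (-1) _ (h8 1)
  rw [xG_inv, neg_neg] at h1
  have h3 := mul_mem (inv_mem (h8 1)) h1
  have e5 : X₂ 7 (-1) = (X₂ 7 1)⁻¹ := by rw [xG_inv]
  have e6 : (X₂ 8 1)⁻¹ * (X₂ 7 (-1) * X₂ 8 1 * X₂ 7 1) = X₂ 10 (-3) * X₂ 11 (-3) := by
    have e7 : X₂ 9 (0 : F) = 1 := xG_zero inListG2 9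
    rw [e5, mul_assoc (X₂ 7 1)⁻¹, e]
    show _ * ((X₂ 7 1)⁻¹ * (X₂ 7 1 * X₂ 8 1 * (X₂ 9 0 * (X₂ 10 (-3) * X₂ 11 (-3))))) = _
    rw [e7]
    group
  rw [e6] at h3
  refine ⟨-3, ?_, X₂ 11 (-3), xG_mem_unipGE inListG2 p11 le_rfl _, h3⟩
  have : (-3 : F) = 1 - 2 * 2 := by norm_num
  rw [this, h2, mul_zero, sub_zero]
  exact one_ne_zero

end Cfsg.Agent.H96.WeakClosed
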