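import Cfsg.Agent.ChevalleyStructure.RootVecTab

/-!
helper96: table checks for the theorem on weakly closed unipotent subgroups (S2244).
Separation of pairs of positive roots by elements `h_{p_i}(a) h_{p_j}(b)` of the torus.
-/

set_option autoImplicit false

namespace Cfsg.Agent.H96.WCTab

open Cfsg.Lie Cfsg.Agent.ChevalleyStructure.RootVecTab

/-- `P ≠ Q` and `|P - Q| ≤ k`. -/
def near (k P Q : ℕ) : Bool := !(Nat.beq P Q) && (Nat.ble P (Nat.add Q k) && Nat.ble Q (Nat.add P k))

/-- `x A_i + y A_j` (or `y A_j - x A_i`) vanishes on `b` and is non-zero and at most `k` on `c`. -/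
def sepX (D : ChevalleyDatum) (k b c i j x y : ℕ) : Bool :=
  (Nat.beq (Nat.add (Nat.mul y (cart D j b)) (Nat.mul x (cart D i b))) (Nat.add (Nat.mul 8 y) (Nat.mul 8 x)) &&
    near k (Nat.add (Nat.mul y (cart D j c)) (Nat.mul x (cart D i c))) (Nat.add (Nat.mul 8 y) (Nat.mul 8 x))) ||
  (Nat.beq (Nat.add (Nat.mul y (cart D j b)) (Nat.mul 8 x)) (Nat.add (Nat.mul x (cart D i b)) (Nat.mul 8 y)) &&
    near k (Nat.add (Nat.mul y (cart D j c)) (Nat.mul 8 x)) (Nat.add (Nat.mul x (cart D i c)) (Nat.mul 8 y)))

/-- Separation of `b` and `c`. -/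
def sep (D : ChevalleyDatum) (k b c : ℕ) : Bool :=
  anyLT (fun j => sepX D k b c 0 j 0 1) D.rank ||
    anyLT (fun x => anyLT (fun y => anyLT (fun j => anyLT (fun i => sepX D k b c i j (Nat.succ x) (Nat.succ y))
      D.rank) D.rank) 3) 3

/-- `b` is not orthogonal to all fundamental roots (with Cartan integer `±1` or `±2`). -/
def act (D : ChevalleyDatum) (b : ℕ) : Bool := anyLT (fun i => near 2 (cart D i b) 8) D.rank

/-- Both checks for the roots `b` with `lo ≤ b < lo + n` against all higher roots. -/
def chkSep (D : ChevalleyDatum) (k lo n : ℕ) : Bool :=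
  allLT (fun b' => act D (Nat.add lo b') &&
    allLT (fun c' => sep D k (Nat.add lo b') (Nat.add (Nat.add lo b') (Nat.succ c')))
      (Nat.sub (Nat.sub D.nroots 1) (Nat.add lo b'))) n

/-- The same with the pairs of long roots of `G₂` left out. -/
def chkSepG (D : ChevalleyDatum) (k lo n : ℕ) : Bool :=
  allLT (fun b' => act D (Nat.add lo b') &&
    allLT (fun c' => sep D k (Nat.add lo b') (Nat.add (Nat.add lo b') (Nat.succ c')) ||
      (Nat.beq (Nat.add lo b') 6 && Nat.beq (Nat.add (Nat.add lo b') (Nat.succ c')) 10) ||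
      (Nat.beq (Nat.add lo b') 6 && Nat.beq (Nat.add (Nat.add lo b') (Nat.succ c')) 11) ||
      (Nat.beq (Nat.add lo b') 10 && Nat.beq (Nat.add (Nat.add lo b') (Nat.succ c')) 11))
      (Nat.sub (Nat.sub D.nroots 1) (Nat.add lo b'))) n

set_option maxRecDepth 100000 in
theorem chkSep_B2 : chkSep chevB2 2 4 4 = true := by decide +kernel
set_option maxRecDepth 100000 in
theorem chkSep_G2 : chkSep chevG2 3 6 6 = true := by decide +kernel
set_option maxRecDepth 100000 in
theorem chkSepG_G2 : chkSepG chevG2 2 6 6 = true := by decide +kernel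
set_option maxRecDepth 100000 in
theorem chkSep_D4 : chkSep chevD4 2 12 12 = true := by decide +kernel
set_option maxRecDepth 100000 in
theorem chkSep_F4 : chkSep chevF4 2 24 24 = true := by decide +kernel
set_option maxRecDepth 100000 in
theorem chkSep_E6 : chkSep chevE6 1 36 36 = true := by decide +kernel
set_option maxRecDepth 100000 in
theorem chkSep_E7 : chkSep chevE7 1 63 63 = true := by decide +kernel

theorem allLT_add' {f g : ℕ → Bool} {n m : ℕ} (h1 : allLT f n = true) (h2 : allLT g m = true)
    (h : ∀ i, g i = f (Nat.add n i)) : allLT f (Nat.add n m) = true := by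
  induction m with
  | zero => exact h1
  | succ m ih =>
    have h3 : (g m && allLT g m) = true := h2
    rw [Bool.and_eq_true] at h3
    change (f (Nat.add n m) && allLT f (Nat.add n m)) = true
    rw [← h, h3.1, ih h3.2]
    rfl

theorem chkSep_add {D : ChevalleyDatum} {k lo n m : ℕ} (h1 : chkSep D k lo n = true)
    (h2 : chkSep D k (Nat.add lo n) m = true) : chkSep D k lo (Nat.add n m) = true :=
  allLT_add' h1 h2 fun i => congrArg (fun b => act D b &&
    allLT (fun c' => sep D k b (Nat.add b (Nat.succ c'))) (Nat.sub (Nat.sub D.nroots 1) b)) (Nat.add_assoc lo n i)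

set_option maxRecDepth 100000 in
theorem chkSep_E8_a : chkSep chevE8 1 120 16 = true := by decide +kernel
set_option maxRecDepth 100000 in
theorem chkSep_E8_b : chkSep chevE8 1 136 19 = true := by decide +kernel
set_option maxRecDepth 100000 in
theorem chkSep_E8_c : chkSep chevE8 1 155 25 = true := by decide +kernel
set_option maxRecDepth 100000 in
theorem chkSep_E8_d : chkSep chevE8 1 180 60 = true := by decide +kernel

theorem chkSep_E8 : chkSep chevE8 1 120 120 = true :=
  chkSep_add (n := 16) (m := 104) chkSep_E8_a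
    (chkSep_add (n := 19) (m := 85) chkSep_E8_b (chkSep_add (n := 25) (m := 60) chkSep_E8_c chkSep_E8_d))

end Cfsg.Agent.H96.WCTab
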