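import Cfsg.Agent.ChevalleyStructure.RootVec
import Cfsg.Prelude.Def_ChevStructure

/-!
helper96: table checks for the theorem on weakly closed unipotent subgroups (S2244).
A positive root `a` with positive Cartan integer at the fundamental root `p_i` occurs with coefficient `±1` in the
commutator formula for `p_i` and the bottom of the `p_i`-string through `a`.
-/

set_option autoImplicit false

namespace Cfsg.Agent.H96.WCTab

open Cfsg.Lie Cfsg.Agent.ChevalleyStructure Cfsg.Agent.ChevalleyStructure.RootVecTab

/-- The list is strictly increasing. -/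
def incB : List ℕ → Bool
  | [] => true
  | a :: l => (match l with
    | [] => true
    | b :: _ => Nat.blt a b) && incB l

def strAt (D : ChevalleyDatum) (lo i a : ℕ) (q : ℕ) : Bool :=
  Nat.ble lo q && !(Nat.beq q (D.simple i)) && incB ((D.commTerms (D.simple i) q).map Prod.fst) &&
    (D.commTerms (D.simple i) q).any (fun c => Nat.beq c.1 a && (decide (c.2.1 = 1) || decide (c.2.1 = -1)))

def str (D : ChevalleyDatum) (lo i a : ℕ) : Bool :=
  match (D.chainEntry (D.neg (D.simple i)) a).getLast? with
  | none => false
  | some q => strAt D lo i a q.1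

def chkStr (D : ChevalleyDatum) (lo n : ℕ) : Bool :=
  allLT (fun i => allLT (fun a' => Nat.beq (Nat.add lo a') (D.simple i) ||
    (Nat.ble (cart D i (Nat.add lo a')) 8 || str D lo i (Nat.add lo a'))) n) D.rank

set_option maxRecDepth 100000 in
theorem chkStr_B2 : chkStr chevB2 4 4 = true := by decide +kernel
set_option maxRecDepth 100000 in
theorem chkStr_G2 : chkStr chevG2 6 6 = true := by decide +kernel
set_option maxRecDepth 100000 in
theorem chkStr_D4 : chkStr chevD4 12 12 = true := by decide +kernel
set_option maxRecDepth 100000 in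
theorem chkStr_F4 : chkStr chevF4 24 24 = true := by decide +kernel
set_option maxRecDepth 100000 in
theorem chkStr_E6 : chkStr chevE6 36 36 = true := by decide +kernel
set_option maxRecDepth 100000 in
theorem chkStr_E7 : chkStr chevE7 63 63 = true := by decide +kernel
set_option maxRecDepth 100000 in
theorem chkStr_E8 : chkStr chevE8 120 120 = true := by decide +kernel

theorem pairwise_of_incB : ∀ l : List ℕ, incB l = true → l.Pairwise (· < ·)
  | [] => fun _ => List.Pairwise.nil
  | [a] => fun _ => List.pairwise_singleton _ a
  | a :: b :: l => fun h => by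
    have h' : (Nat.blt a b && incB (b :: l)) = true := h
    rw [Bool.and_eq_true] at h'
    have ih := pairwise_of_incB (b :: l) h'.2
    have hab : a < b := by simpa using h'.1
    rw [List.pairwise_cons]
    refine ⟨fun c hc => ?_, ih⟩
    rcases List.mem_cons.1 hc with rfl | hc
    · exact hab
    · exact hab.trans ((List.pairwise_cons.1 ih).1 c hc)

theorem str_sound {D : ChevalleyDatum} {lo n : ℕ} (h : chkStr D lo n = true) {i : ℕ} (hi : i < D.rank) {a : ℕ}
    (ha : lo ≤ a) (ha' : a < lo + n) (hne : a ≠ D.simple i) (hc : 8 < cart D i a) :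
    ∃ s, lo ≤ s ∧ s ≠ D.simple i ∧ ((D.commTerms (D.simple i) s).map Prod.fst).Pairwise (· < ·) ∧
      ∃ c ∈ D.commTerms (D.simple i) s, c.1 = a ∧ (c.2.1 = 1 ∨ c.2.1 = -1) := by
  have h1 := (RootVec.allLT_iff _ _).1 ((RootVec.allLT_iff _ _).1 h i hi) (a - lo) (by omega)
  have ea : Nat.add lo (a - lo) = a := by show lo + (a - lo) = a; omega
  simp only [ea, Bool.or_eq_true] at h1
  rcases h1 with h1 | h1 | h1
  · exact absurd (RootVec.beq_iff.1 h1) hne
  · have := RootVec.ble_iff.1 h1; omega
  · have h2 : (match (D.chainEntry (D.neg (D.simple i)) a).getLast? with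
      | none => false
      | some q => strAt D lo i a q.1) = true := h1
    split at h2
    · simp at h2
    · rename_i q _
      have h3 : (Nat.ble lo q.1 && !(Nat.beq q.1 (D.simple i)) && incB ((D.commTerms (D.simple i) q.1).map Prod.fst) &&
        (D.commTerms (D.simple i) q.1).any (fun c => Nat.beq c.1 a && (decide (c.2.1 = 1) || decide (c.2.1 = -1)))) =
          true := h2
      simp only [Bool.and_eq_true, List.any_eq_true, Bool.or_eq_true, decide_eq_true_eq, Bool.not_eq_true'] at h3
      obtain ⟨⟨⟨h4, h5⟩, h6⟩, c, hc, h7, h8⟩ := h3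
      refine ⟨q.1, RootVec.ble_iff.1 h4, ?_, pairwise_of_incB _ h6, c, hc, RootVec.beq_iff.1 h7, h8⟩
      intro e
      rw [e] at h5
      have : Nat.beq (D.simple i) (D.simple i) = true := RootVec.beq_iff.2 rfl
      rw [this] at h5
      exact absurd h5 (by simp)

end Cfsg.Agent.H96.WCTab
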