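import Cfsg.Agent.ChevalleyStructure.UnipProd
import Cfsg.Agent.ChevalleyStructure.RootVec
import Cfsg.Agent.S1031
import Cfsg.Agent.S1032

/-!
helper96: subgroups `X` of the unipotent group `U` of a Chevalley group normalised by the Borel subgroup.

For `k : ℕ` let `U_k = unipGE D F k` be the subgroup generated by the positive root groups of index `≥ k`.
`Lead X b`: some element of `X` lies in `x_b(t) U_{b+1}` with `t ≠ 0`.
The main lemma `root_mem_of_lead`: if `Lead X b` and each root `c > b` is either separated from `b` by a torus element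
normalising `X`, or `Lead X c` holds, then `x_b(t) ∈ X` for all `t`.
-/

set_option autoImplicit false

namespace Cfsg.Agent.H96.WeakClosed

open Cfsg.Lie Cfsg.Agent.ChevalleyStructure.Elts
open Cfsg.Agent.ChevalleyStructure.UnipProd

universe u

variable {F : Type u} [Field F] {D : ChevalleyDatum}

/-! ### additive subgroups of the field stable under squares -/

/-- An additive subgroup stable under multiplication by squares is stable under all scalars. -/
theorem smul_mem_of_sq [Finite F] (A : AddSubgroup F) (hA : ∀ a ∈ A, ∀ c : F, c ^ 2 * a ∈ A) {a : F} (ha : a ∈ A)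
    (c : F) : c * a ∈ A := by
  by_cases h2 : (2 : F) = 0
  · have : CharP F 2 := CharTwo.of_one_ne_zero_of_two_eq_zero one_ne_zero h2
    obtain ⟨d, hd⟩ := FiniteField.isSquare_of_char_two (F := F) (ringChar.eq F 2) c
    rw [hd, ← sq]
    exact hA a ha d
  · have h1 : ∀ d : F, (2 * d) * a ∈ A := by
      intro d
      have e : (2 * d) * a = (d + 1) ^ 2 * a - d ^ 2 * a - 1 ^ 2 * a := by ring
      rw [e]
      exact A.sub_mem (A.sub_mem (hA a ha _) (hA a ha _)) (hA a ha _)
    have h3 := h1 (c / 2)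
    rwa [mul_div_cancel₀ c h2] at h3

/-! ### conjugation by the torus -/

theorem hG_conj (hD : InList D) {i s : ℕ} (hi : i < D.rank) (hs : s < D.nroots) {c : F} (hc : c ≠ 0) (t : F) :
    hG hD (D.simple i) c * xG hD s t * (hG hD (D.simple i) c)⁻¹ = xG hD s (c ^ (D.cartan i s) * t) := by
  have h1 := Cfsg.Agent.S1032.result (F := F) D hD i s hi hs c hc t
  have h2 : hG hD (D.simple i) c * xG hD s t = xG hD s (c ^ (D.cartan i s) * t) * hG hD (D.simple i) c :=
    Units.ext (by simpa using h1)
  rw [h2, mul_inv_cancel_right]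

/-- `g` acts on `X_s` by multiplication with a non-zero scalar, for all roots `s`. -/
def Tor (hD : InList D) (g : GL D.Idx F) (χ : ℕ → F) : Prop :=
  ∀ s < D.nroots, χ s ≠ 0 ∧ ∀ t : F, g * xG hD s t * g⁻¹ = xG hD s (χ s * t)

theorem tor_hG (hD : InList D) {i : ℕ} (hi : i < D.rank) {c : F} (hc : c ≠ 0) :
    Tor hD (hG hD (D.simple i) c) (fun s => c ^ (D.cartan i s)) :=
  fun _ hs => ⟨zpow_ne_zero _ hc, hG_conj hD hi hs hc⟩

theorem Tor.mul {hD : InList D} {g g' : GL D.Idx F} {χ χ' : ℕ → F} (h : Tor hD g χ) (h' : Tor hD g' χ') :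
    Tor hD (g * g') (fun s => χ s * χ' s) := by
  intro s hs
  refine ⟨mul_ne_zero (h s hs).1 (h' s hs).1, fun t => ?_⟩
  have e : g * g' * xG hD s t * (g * g')⁻¹ = g * (g' * xG hD s t * g'⁻¹) * g⁻¹ := by group
  rw [e, (h' s hs).2, (h s hs).2, mul_assoc]

theorem Tor.conj_mem {hD : InList D} {g : GL D.Idx F} {χ : ℕ → F} (h : Tor hD g χ) {k : ℕ} {v : GL D.Idx F}
    (hv : v ∈ unipGE D F k) : g * v * g⁻¹ ∈ unipGE D F k := by
  have hle : unipGE D F k ≤ (unipGE D F k).comap (MulAut.conj g).toMonoidHom := by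
    refine (unipGE_le_iff hD k _).2 fun s hs hk u => ?_
    show g * xG hD s u * g⁻¹ ∈ unipGE D F k
    rw [(h s hs.1).2]
    exact xG_mem_unipGE hD hs hk _
  exact hle hv

/-! ### leading terms -/

/-- `X` is normalised by `g`. -/
def Nrm (X : Subgroup (GL D.Idx F)) (g : GL D.Idx F) : Prop := ∀ x ∈ X, g * x * g⁻¹ ∈ X

theorem Nrm.mul {X : Subgroup (GL D.Idx F)} {g g' : GL D.Idx F} (h : Nrm X g) (h' : Nrm X g') : Nrm X (g * g') := by
  intro x hx
  have e : g * g' * x * (g * g')⁻¹ = g * (g' * x * g'⁻¹) * g⁻¹ := by group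
  rw [e]
  exact h _ (h' _ hx)

/-- Some element of `X` is `x_b(t) v` with `t ≠ 0`, `v ∈ U_{b+1}`. -/
def Lead (hD : InList D) (X : Subgroup (GL D.Idx F)) (b : ℕ) : Prop :=
  ∃ t : F, t ≠ 0 ∧ ∃ v ∈ unipGE D F (b + 1), xG hD b t * v ∈ X

/-- The set of leading coefficients. -/
def leadSub (hD : InList D) (X : Subgroup (GL D.Idx F)) {b : ℕ} (hb : D.IsPosRoot b) : AddSubgroup F where
  carrier := {t | ∃ v ∈ unipGE D F (b + 1), xG hD b t * v ∈ X}
  zero_mem' := ⟨1, one_mem _, by rw [xG_zero, mul_one]; exact one_mem _⟩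
  add_mem' := by
    rintro t t' ⟨v, hv, h⟩ ⟨v', hv', h'⟩
    refine ⟨(xG hD b (-t') * v * xG hD b t') * v', mul_mem (conj_mem hD hb t' hv) hv', ?_⟩
    have e : xG hD b (t + t') * ((xG hD b (-t') * v * xG hD b t') * v') = (xG hD b t * v) * (xG hD b t' * v') := by
      rw [← xG_add, ← xG_inv]
      group
    rw [e]
    exact mul_mem h h'
  neg_mem' := by
    rintro t ⟨v, hv, h⟩
    refine ⟨xG hD b (-(-t)) * v⁻¹ * xG hD b (-t), conj_mem hD hb (-t) (inv_mem hv), ?_⟩
    have e : xG hD b (-t) * (xG hD b (-(-t)) * v⁻¹ * xG hD b (-t)) = (xG hD b t * v)⁻¹ := by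
      rw [neg_neg, ← xG_inv]
      group
    rw [e]
    exact inv_mem h

theorem mem_leadSub {hD : InList D} {X : Subgroup (GL D.Idx F)} {b : ℕ} {hb : D.IsPosRoot b} {t : F} :
    t ∈ leadSub hD X hb ↔ ∃ v ∈ unipGE D F (b + 1), xG hD b t * v ∈ X := Iff.rfl

theorem leadSub_tor {hD : InList D} {X : Subgroup (GL D.Idx F)} {b : ℕ} {hb : D.IsPosRoot b} {g : GL D.Idx F}
    {χ : ℕ → F} (hg : Tor hD g χ) (hn : Nrm X g) {t : F} (ht : t ∈ leadSub hD X hb) :
    χ b * t ∈ leadSub hD X hb := by
  obtain ⟨v, hv, h⟩ := ht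
  refine ⟨g * v * g⁻¹, hg.conj_mem hv, ?_⟩
  have e : xG hD b (χ b * t) * (g * v * g⁻¹) = g * (xG hD b t * v) * g⁻¹ := by
    rw [← (hg b hb.1).2]
    group
  rw [e]
  exact hn _ h

/-- `X` is a subgroup of `U` normalised by the torus. -/
structure TStable (hD : InList D) (X : Subgroup (GL D.Idx F)) : Prop where
  torus : ∀ i < D.rank, ∀ c : F, c ≠ 0 → Nrm X (hG hD (D.simple i) c)

theorem full_of_lead [Finite F] {hD : InList D} {X : Subgroup (GL D.Idx F)} (hX : TStable hD X) {b : ℕ}
    (hb : D.IsPosRoot b)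
    (hact : ∃ i < D.rank, D.cartan i b = 1 ∨ D.cartan i b = -1 ∨ D.cartan i b = 2 ∨ D.cartan i b = -2)
    (hl : Lead hD X b) (t : F) : ∃ v ∈ unipGE D F (b + 1), xG hD b t * v ∈ X := by
  obtain ⟨t₀, ht₀, h0⟩ := hl
  obtain ⟨i, hi, hA⟩ := hact
  have hsq : ∀ a ∈ leadSub hD X hb, ∀ c : F, c ^ 2 * a ∈ leadSub hD X hb := by
    intro a ha c
    by_cases hc : c = 0
    · rw [hc, zero_pow two_ne_zero, zero_mul]; exact zero_mem _
    have key : ∀ d : F, d ≠ 0 → d ^ (D.cartan i b) * a ∈ leadSub hD X hb := fun d hd =>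
      leadSub_tor (tor_hG hD hi hd) (hX.torus i hi d hd) ha
    have hc2 : c ^ 2 ≠ 0 := pow_ne_zero 2 hc
    rcases hA with h | h | h | h
    · have := key (c ^ 2) hc2
      rwa [h, zpow_one] at this
    · have := key (c ^ 2)⁻¹ (inv_ne_zero hc2)
      rwa [h, zpow_neg, zpow_one, inv_inv] at this
    · have := key c hc
      rw [h] at this
      exact_mod_cast this
    · have := key c⁻¹ (inv_ne_zero hc)
      rw [h, zpow_neg, inv_zpow, inv_inv] at this
      exact_mod_cast this
  have h1 := smul_mem_of_sq (leadSub hD X hb) hsq (a := t₀) h0 (t / t₀)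
  rw [div_mul_cancel₀ t ht₀] at h1
  exact h1

/-- `b` and `c` are separated by a torus element normalising `X`. -/
def Sep (hD : InList D) (X : Subgroup (GL D.Idx F)) (b c : ℕ) : Prop :=
  ∃ (g : GL D.Idx F) (χ : ℕ → F), Tor hD g χ ∧ Nrm X g ∧ χ b = 1 ∧ χ c ≠ 1

theorem root_mem_of_lead {hD : InList D} {X : Subgroup (GL D.Idx F)}
    (hfull : ∀ b, D.IsPosRoot b → Lead hD X b → ∀ t : F, ∃ v ∈ unipGE D F (b + 1), xG hD b t * v ∈ X)
    {b : ℕ} (hb : D.IsPosRoot b) (hpair : ∀ c, D.IsPosRoot c → b < c → Sep hD X b c ∨ Lead hD X c)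
    (hl : Lead hD X b) (t : F) : xG hD b t ∈ X := by
  have main : ∀ n : ℕ, ∀ t : F, ∃ v ∈ unipGE D F (b + 1 + n), xG hD b t * v ∈ X := by
    intro n
    induction n with
    | zero => exact fun t => hfull b hb hl t
    | succ n ih =>
      intro t
      obtain ⟨v, hv, hX⟩ := ih t
      by_cases hc : D.IsPosRoot (b + 1 + n)
      · obtain ⟨t', w, hw, rfl⟩ := exists_of_mem_unipGE hD hc hv
        by_cases ht' : t' = 0
        · refine ⟨w, hw, ?_⟩
          rwa [ht', xG_zero, one_mul] at hX
        have hlead : Lead hD X (b + 1 + n) := by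
          rcases hpair _ hc (by omega) with ⟨g, χ, hg, hn, h1, h2⟩ | h
          · have h3 := hn _ hX
            have e1 : g * (xG hD b t * (xG hD (b + 1 + n) t' * w)) * g⁻¹ =
                xG hD b t * (xG hD (b + 1 + n) (χ (b + 1 + n) * t') * (g * w * g⁻¹)) := by
              have e2 := (hg b hb.1).2 t
              rw [h1, one_mul] at e2
              have e3 := (hg _ hc.1).2 t'
              rw [← e3]
              nth_rewrite 2 [← e2]
              group
            rw [e1] at h3
            have h4 := mul_mem (inv_mem hX) h3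
            have hw' : g * w * g⁻¹ ∈ unipGE D F (b + 1 + n + 1) := hg.conj_mem hw
            have e4 : (xG hD b t * (xG hD (b + 1 + n) t' * w))⁻¹ *
                (xG hD b t * (xG hD (b + 1 + n) (χ (b + 1 + n) * t') * (g * w * g⁻¹))) =
                xG hD (b + 1 + n) (χ (b + 1 + n) * t' - t') *
                  ((xG hD (b + 1 + n) (-(χ (b + 1 + n) * t' - t')) * w⁻¹ *
                    xG hD (b + 1 + n) (χ (b + 1 + n) * t' - t')) * (g * w * g⁻¹)) := by
              have e5 : xG hD (b + 1 + n) (χ (b + 1 + n) * t' - t') =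
                  (xG hD (b + 1 + n) t')⁻¹ * xG hD (b + 1 + n) (χ (b + 1 + n) * t') := by
                rw [xG_inv, xG_add]; congr 1; ring
              rw [← xG_inv, e5]
              group
            rw [e4] at h4
            refine ⟨χ (b + 1 + n) * t' - t', ?_, _, mul_mem (conj_mem hD hc _ (inv_mem hw)) hw', h4⟩
            intro h0
            apply h2
            have : (χ (b + 1 + n) - 1) * t' = 0 := by rw [← h0]; ring
            rcases mul_eq_zero.1 this with h | h
            · exact sub_eq_zero.1 h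
            · exact absurd h ht'
          · exact h
        obtain ⟨z, hz, hzX⟩ := hfull _ hc hlead (-t')
        refine ⟨(xG hD (b + 1 + n) (-(-t')) * w * xG hD (b + 1 + n) (-t')) * z,
          mul_mem (conj_mem hD hc _ hw) hz, ?_⟩
        have e : xG hD b t * ((xG hD (b + 1 + n) (-(-t')) * w * xG hD (b + 1 + n) (-t')) * z) =
            (xG hD b t * (xG hD (b + 1 + n) t' * w)) * (xG hD (b + 1 + n) (-t') * z) := by
          rw [neg_neg]
          group
        rw [e]
        exact mul_mem hX hzX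
      · refine ⟨v, ?_, hX⟩
        have hle : unipGE D F (b + 1 + n) ≤ unipGE D F (b + 1 + (n + 1)) := by
          refine (unipGE_le_iff hD _ _).2 fun r hr hk u => ?_
          refine xG_mem_unipGE hD hr ?_ u
          rcases Nat.eq_or_lt_of_le hk with h | h
          · rw [← h] at hr; exact absurd hr hc
          · omega
        exact hle hv
  obtain ⟨v, hv, h⟩ := main D.nroots t
  rw [unipGE_eq_bot hD F (by omega), Subgroup.mem_bot] at hv
  rwa [hv, mul_one] at h

/-- `X` is generated by the root groups it contains. -/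
theorem le_of_roots {hD : InList D} {X : Subgroup (GL D.Idx F)} (hXU : X ≤ D.posUnipotent F)
    (hroot : ∀ b, D.IsPosRoot b → Lead hD X b → ∀ t : F, xG hD b t ∈ X) {K : Subgroup (GL D.Idx F)}
    (hK : ∀ b, D.IsPosRoot b → (∀ t : F, xG hD b t ∈ X) → ∀ t : F, xG hD b t ∈ K) : X ≤ K := by
  have main : ∀ n k : ℕ, D.nroots ≤ k + n → ∀ x ∈ X, x ∈ unipGE D F k → x ∈ K := by
    intro n
    induction n with
    | zero =>
      intro k hk x _ hx
      rw [unipGE_eq_bot hD F (by omega), Subgroup.mem_bot] at hx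
      rw [hx]; exact one_mem _
    | succ n ih =>
      intro k hk x hxX hx
      by_cases hc : D.IsPosRoot k
      · obtain ⟨t, v, hv, rfl⟩ := exists_of_mem_unipGE hD hc hx
        by_cases ht : t = 0
        · rw [ht, xG_zero, one_mul] at hxX ⊢
          exact ih (k + 1) (by omega) v hxX hv
        · have hX := hroot k hc ⟨t, ht, v, hv, hxX⟩
          refine mul_mem (hK k hc hX t) (ih (k + 1) (by omega) v ?_ hv)
          have := mul_mem (inv_mem (hX t)) hxX
          rwa [inv_mul_cancel_left] at this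
      · refine ih (k + 1) (by omega) x hxX ?_
        have hle : unipGE D F k ≤ unipGE D F (k + 1) := by
          refine (unipGE_le_iff hD _ _).2 fun r hr hk' u => ?_
          refine xG_mem_unipGE hD hr ?_ u
          rcases Nat.eq_or_lt_of_le hk' with h | h
          · rw [← h] at hr; exact absurd hr hc
          · omega
        exact hle hx
  intro x hx
  refine main D.nroots 0 (by omega) x hx ?_
  rw [unipGE_eq_posUnipotent hD F (Nat.zero_le _)]
  exact hXU hx

/-- All roots with non-zero coefficient in an increasing word lying in `X` have their root group in `X`. -/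
theorem word_roots {hD : InList D} {X : Subgroup (GL D.Idx F)}
    (hroot : ∀ b, D.IsPosRoot b → Lead hD X b → ∀ t : F, xG hD b t ∈ X) :
    ∀ w : List (ℕ × F), (∀ p ∈ w, D.IsPosRoot p.1) → (w.map Prod.fst).Pairwise (· < ·) → wordG hD w ∈ X →
      ∀ p ∈ w, p.2 ≠ 0 → ∀ t : F, xG hD p.1 t ∈ X := by
  intro w
  induction w with
  | nil => intro _ _ _ p hp; simp at hp
  | cons q w ih =>
    intro hpos hinc hw p hp hp0 t
    rw [List.map_cons, List.pairwise_cons] at hinc
    rw [wordG_cons] at hw
    have hv : wordG hD w ∈ unipGE D F (q.1 + 1) := by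
      refine mem_of_xG_mem hD fun p' hp' => ?_
      exact xG_mem_unipGE hD (hpos p' (List.mem_cons_of_mem _ hp')) (hinc.1 _ (List.mem_map_of_mem hp')) _
    by_cases hq : q.2 = 0
    · rw [hq, xG_zero, one_mul] at hw
      rcases List.mem_cons.1 hp with rfl | hp
      · exact absurd hq hp0
      · exact ih (fun p' hp' => hpos p' (List.mem_cons_of_mem _ hp')) hinc.2 hw p hp hp0 t
    · have hX := hroot q.1 (hpos q List.mem_cons_self) ⟨q.2, hq, _, hv, hw⟩
      rcases List.mem_cons.1 hp with rfl | hp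
      · exact hX t
      · refine ih (fun p' hp' => hpos p' (List.mem_cons_of_mem _ hp')) hinc.2 ?_ p hp hp0 t
        have := mul_mem (inv_mem (hX q.2)) hw
        rwa [inv_mul_cancel_left] at this

end Cfsg.Agent.H96.WeakClosed
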