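import Cfsg.Agent.H96.WeakClosed
import Cfsg.Agent.H96.WCTab2
import Cfsg.Agent.ChevalleyStructure.RootComb
import Cfsg.Agent.ChevalleyStructure.RootWord

/-!
helper96: a weakly closed subgroup of `U` that is the product of the root groups it contains (in the strong sense
`hroot`) is the unipotent radical of a standard parabolic subgroup.
-/

set_option autoImplicit false

namespace Cfsg.Agent.H96.WeakClosed

open Cfsg.Lie Cfsg.Agent.ChevalleyStructure.Elts Cfsg.Agent.ChevalleyStructure
open Cfsg.Agent.ChevalleyStructure.UnipProd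

universe u

variable {F : Type u} [Field F] {D : ChevalleyDatum}

theorem chkStr_mem (hD : InList D) : WCTab.chkStr D (D.nroots / 2) (D.nroots / 2) = true := by
  simp only [InList, List.mem_cons, List.not_mem_nil, or_false] at hD
  rcases hD with rfl | rfl | rfl | rfl | rfl | rfl | rfl
  exacts [WCTab.chkStr_G2, WCTab.chkStr_B2, WCTab.chkStr_D4, WCTab.chkStr_F4, WCTab.chkStr_E6, WCTab.chkStr_E7,
    WCTab.chkStr_E8]

theorem string_fact (hD : InList D) {i : ℕ} (hi : i < D.rank) {a : ℕ} (ha : D.IsPosRoot a) (hne : a ≠ D.simple i)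
    (hc : 0 < D.cartan i a) :
    ∃ s, D.IsPosRoot s ∧ s ≠ D.simple i ∧ ((D.commTerms (D.simple i) s).map Prod.fst).Pairwise (· < ·) ∧
      ∃ c ∈ D.commTerms (D.simple i) s, c.1 = a ∧ (c.2.1 = 1 ∨ c.2.1 = -1) := by
  have h := RootVecTab.checked_of_mem hD
  have hpos := (UnipOrd.isPosRoot_iff hD a).1 ha
  have hev := UnipOrd.nroots_even hD
  rw [RootVec.cartan_eq_cart h hi hpos.2] at hc
  obtain ⟨s, hs, hsi, hinc, c, hc', hca, hC⟩ := WCTab.str_sound (chkStr_mem hD) hi hpos.1 (by omega) hne (by omega)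
  refine ⟨s, ?_, hsi, hinc, c, hc', hca, hC⟩
  obtain ⟨u, C, x, y⟩ := c
  have := (RootVec.commTerms_rt h hc').2.2.1
  exact (UnipOrd.isPosRoot_iff hD s).2 ⟨hs, this⟩

theorem inRootSub_reflect (G : RootCombGood.Good D) {J : Set ℕ} {i r : ℕ} (hi : i < D.rank) (hiJ : i ∈ J)
    (hr : D.InRootSub J r) : D.InRootSub J (D.reflectRoot i r) := by
  refine ⟨G.reflect_lt hi hr.1, fun j hj hjJ => ?_⟩
  have h1 := G.co_reflect hi hr.1 hj
  have h2 : RootCombGood.co D r j = 0 := hr.2 j hj hjJ
  have h3 : j ≠ i := by rintro rfl; exact hjJ hiJ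
  rw [h2, if_neg h3, sub_zero] at h1
  exact h1

theorem inRootSub_simple (G : RootCombGood.Good D) {J : Set ℕ} {i : ℕ} (hi : i < D.rank) (hiJ : i ∈ J) :
    D.InRootSub J (D.simple i) := by
  refine ⟨G.simple_lt hi, fun j hj hjJ => ?_⟩
  have h1 := G.co_simple hi hj
  rw [if_neg (by rintro rfl; exact hjJ hiJ)] at h1
  exact h1

theorem exists_J {hD : InList D} {X : Subgroup (GL D.Idx F)} (hXU : X ≤ D.posUnipotent F)
    (hwc : ∀ g ∈ D.group F, X.map (MulAut.conj g).toMonoidHom ≤ D.posUnipotent F →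
      X.map (MulAut.conj g).toMonoidHom = X)
    (hroot : ∀ b, D.IsPosRoot b → Lead hD X b → ∀ t : F, xG hD b t ∈ X) :
    ∃ J : Set ℕ, (∀ j ∈ J, j < D.rank) ∧ X = D.unipotentRadical F J := by
  have G := RootComb.good_of_mem hD
  have h := RootVecTab.checked_of_mem hD
  -- the unipotent group normalises `X`
  have hU : ∀ r, D.IsPosRoot r → ∀ t : F, Nrm X (xG hD r t) := by
    intro r hr t x hx
    have h1 := hwc (xG hD r t) (xG_mem_group hD r t) (by
      rintro _ ⟨y, hy, rfl⟩
      show xG hD r t * y * (xG hD r t)⁻¹ ∈ D.posUnipotent F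
      exact mul_mem (mul_mem (xG_mem_posUnipotent hD hr t) (hXU hy)) (inv_mem (xG_mem_posUnipotent hD hr t)))
    rw [← h1]
    exact ⟨x, hx, rfl⟩
  set J : Set ℕ := {i | i < D.rank ∧ ¬ ∀ t : F, xG hD (D.simple i) t ∈ X} with hJ
  have hN : ∀ i ∈ J, ∀ b, D.IsPosRoot b → (∀ t : F, xG hD b t ∈ X) → ∀ t : F, xG hD (D.reflectRoot i b) t ∈ X := by
    intro i hiJ b hb hbX t
    have hi : i < D.rank := hiJ.1
    have conj : ∀ c, D.IsPosRoot c → ∃ η : F, η ≠ 0 ∧ ∀ t : F,
        nG hD (D.simple i) 1 * xG hD c t * (nG hD (D.simple i) 1)⁻¹ = xG hD (D.reflectRoot i c) (η * t) := by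
      intro c hc
      obtain ⟨η, hη, h1⟩ := Cfsg.Agent.S1031.result (F := F) D hD i c hi hc.1
      refine ⟨η, ?_, fun t => ?_⟩
      · rcases hη with rfl | rfl <;> simp
      · have h2 : nG hD (D.simple i) 1 * xG hD c t = xG hD (D.reflectRoot i c) (η * t) * nG hD (D.simple i) 1 :=
          Units.ext (by simpa using h1 t)
        rw [h2, mul_inv_cancel_right]
    have h1 := hwc (nG hD (D.simple i) 1) (nG_mem_group hD _ _) (by
      rw [Subgroup.map_le_iff_le_comap]
      refine le_of_roots hXU hroot fun c hc hcX t => ?_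
      show nG hD (D.simple i) 1 * xG hD c t * (nG hD (D.simple i) 1)⁻¹ ∈ D.posUnipotent F
      obtain ⟨η, _, hη⟩ := conj c hc
      rw [hη]
      refine xG_mem_posUnipotent hD (G.reflect_pos hi hc ?_) _
      rintro rfl
      exact hiJ.2 hcX)
    obtain ⟨η, h0, hη⟩ := conj b hb
    rw [← h1]
    refine ⟨xG hD b (η⁻¹ * t), hbX _, ?_⟩
    show nG hD (D.simple i) 1 * xG hD b (η⁻¹ * t) * (nG hD (D.simple i) 1)⁻¹ = _
    rw [hη, mul_inv_cancel_left₀ h0]
  have hC2 : ∀ r, D.IsPosRoot r → ¬ D.InRootSub J r → ∀ t : F, xG hD r t ∈ X := by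
    refine RootWord.pos_induction G (fun i hi hni => ?_) (fun i hi r hr hr' hlt hco ih hni => ?_)
    · by_contra hcon
      exact hni (inRootSub_simple G hi ⟨hi, hcon⟩)
    · by_cases hiJ : i ∈ J
      · have h1 : ¬ D.InRootSub J (D.reflectRoot i r) := by
          intro h2
          have := inRootSub_reflect G hi hiJ h2
          rw [G.reflect_reflect hi hr.1] at this
          exact hni this
        have h2 := hN i hiJ _ hr' (ih h1)
        rwa [G.reflect_reflect hi hr.1] at h2
      · have hip : ∀ t : F, xG hD (D.simple i) t ∈ X := by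
          by_contra hcon
          exact hiJ ⟨hi, hcon⟩
        by_cases hri : r = D.simple i
        · rw [hri]; exact hip
        obtain ⟨s, hs, hsi, hinc, c, hc, hcr, hC⟩ := string_fact hD hi hr hri ((G.reflect_lt_iff hi hr.1).1 hlt)
        have hp := G.simple_pos hi
        have e := xG_comm (F := F) hD (G.simple_lt hi) hs.1 hsi (ne_neg_of_pos hD hp hs) (-1) 1
        have hw : wordG hD (D.commWord F (D.simple i) s (-1) 1) ∈ X := by
          have e2 : wordG hD (D.commWord F (D.simple i) s (-1) 1) =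
              (xG hD s (-1) * (xG hD (D.simple i) (-1))⁻¹ * (xG hD s (-1))⁻¹) * xG hD (D.simple i) (-1) := by
            have e3 : wordG hD (D.commWord F (D.simple i) s (-1) 1) =
                (xG hD (D.simple i) (-1) * xG hD s 1)⁻¹ * (xG hD s 1 * xG hD (D.simple i) (-1)) := by
              rw [e]; group
            have e4 : xG hD s (-1 : F) = (xG hD s 1)⁻¹ := by rw [xG_inv]
            rw [e3, e4]
            group
          rw [e2]
          exact mul_mem (hU s hs _ _ (inv_mem (hip _))) (hip _)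
        have hpos : ∀ p ∈ D.commWord F (D.simple i) s (-1) 1, D.IsPosRoot p.1 := by
          intro p hp'
          obtain ⟨c', hc', hpc⟩ := UnipOrd.mem_commWord hp'
          rw [hpc, UnipOrd.isPosRoot_iff hD]
          have h1 := (UnipOrd.isPosRoot_iff hD _).1 hp
          have h2 := (UnipOrd.isPosRoot_iff hD _).1 hs
          have := UnipOrd.commTerms_ord hD h1.1 h2.1 hc'
          omega
        have hmap : (D.commWord F (D.simple i) s (-1) 1).map Prod.fst = (D.commTerms (D.simple i) s).map Prod.fst := by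
          show ((D.commTerms (D.simple i) s).map _).map Prod.fst = _
          rw [List.map_map]
          rfl
        have hmem : (c.1, (c.2.1 : F) * (-(-1)) ^ c.2.2.1 * 1 ^ c.2.2.2) ∈ D.commWord F (D.simple i) s (-1) 1 :=
          List.mem_map.2 ⟨c, hc, rfl⟩
        have h3 := word_roots hroot _ hpos (by rw [hmap]; exact hinc) hw _ hmem (by
          show (c.2.1 : F) * (-(-1)) ^ c.2.2.1 * 1 ^ c.2.2.2 ≠ 0
          rw [neg_neg, one_pow, one_pow, mul_one, mul_one]
          rcases hC with h | h <;> rw [h] <;> simp)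
        rw [← hcr]
        exact h3
  have hC3 : ∀ r, D.IsPosRoot r → D.InRootSub J r → ¬ ∀ t : F, xG hD r t ∈ X := by
    refine RootWord.pos_induction G (fun i hi hin => ?_) (fun i hi r hr hr' hlt hco ih hin hrX => ?_)
    · have hiJ : i ∈ J := by
        by_contra hiJ
        have h1 : RootCombGood.co D (D.simple i) i = 0 := hin.2 i hi hiJ
        rw [G.co_simple hi hi, if_pos rfl] at h1
        exact one_ne_zero h1
      exact hiJ.2
    · have hiJ : i ∈ J := by
        by_contra hiJ
        have h1 : RootCombGood.co D r i = 0 := hin.2 i hi hiJ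
        have h2 : 0 < RootCombGood.co D r i := hco
        omega
      exact ih (inRootSub_reflect G hi hiJ hin) (hN i hiJ r hr hrX)
  refine ⟨J, fun j hj => hj.1, le_antisymm ?_ ?_⟩
  · refine le_of_roots hXU hroot fun b hb hbX t => ?_
    exact Subgroup.subset_closure ⟨b, t, hb, fun hin => hC3 b hb hin hbX, rfl⟩
  · refine (Subgroup.closure_le _).2 ?_
    rintro g ⟨r, t, hr, hnr, hg⟩
    rw [(eq_xG_iff hD g r t).2 hg]
    exact hC2 r hr hnr t

end Cfsg.Agent.H96.WeakClosed
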