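import Cfsg.Agent.H96.WeakClosedFin
import Cfsg.Agent.H96.WCTab

/-!
helper96: separation of the positive roots by the torus, and the main theorem on weakly closed unipotent subgroups.
-/

set_option autoImplicit false

namespace Cfsg.Agent.H96.WeakClosed

open Cfsg.Lie Cfsg.Agent.ChevalleyStructure.Elts Cfsg.Agent.ChevalleyStructure
open Cfsg.Agent.ChevalleyStructure.UnipProd

universe u

variable {F : Type u} [Field F] {D : ChevalleyDatum}

theorem near_iff {k P Q : ℕ} : WCTab.near k P Q = true ↔ P ≠ Q ∧ P ≤ Q + k ∧ Q ≤ P + k := by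
  show (!(Nat.beq P Q) && (Nat.ble P (Nat.add Q k) && Nat.ble Q (Nat.add P k))) = true ↔ _
  rw [Bool.and_eq_true, Bool.and_eq_true, RootVec.ble_iff, RootVec.ble_iff, Bool.not_eq_true', ← Bool.not_eq_true,
    RootVec.beq_iff]
  exact Iff.rfl

/-- The result of the separation check for one pair. -/
def SepZ (D : ChevalleyDatum) (k b c : ℕ) : Prop :=
  ∃ i < D.rank, ∃ j < D.rank, ∃ x y : ℤ, x * D.cartan i b + y * D.cartan j b = 0 ∧
    x * D.cartan i c + y * D.cartan j c ≠ 0 ∧ |x * D.cartan i c + y * D.cartan j c| ≤ k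

theorem sepZ_of_sepX (h : RootVecTab.Checked D) {k b c i j x y : ℕ} (hi : i < D.rank) (hj : j < D.rank)
    (hb : b < D.nroots) (hc : c < D.nroots) (hs : WCTab.sepX D k b c i j x y = true) : SepZ D k b c := by
  unfold WCTab.sepX at hs
  rw [Bool.or_eq_true, Bool.and_eq_true, Bool.and_eq_true, near_iff, near_iff, RootVec.beq_iff, RootVec.beq_iff] at hs
  have h1 := RootVec.cartan_eq_cart h hi hb
  have h2 := RootVec.cartan_eq_cart h hj hb
  have h3 := RootVec.cartan_eq_cart h hi hc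
  have h4 := RootVec.cartan_eq_cart h hj hc
  rcases hs with ⟨e1, e2, e3, e4⟩ | ⟨e1, e2, e3, e4⟩
  · refine ⟨i, hi, j, hj, x, y, ?_, ?_, ?_⟩
    · rw [h1, h2]
      have e1' : y * RootVecTab.cart D j b + x * RootVecTab.cart D i b = 8 * y + 8 * x := e1
      zify at e1'
      linarith
    · rw [h3, h4]
      have e2' : y * RootVecTab.cart D j c + x * RootVecTab.cart D i c ≠ 8 * y + 8 * x := e2
      intro h0
      apply e2'
      zify
      linarith
    · rw [h3, h4, abs_le]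
      have e3' : y * RootVecTab.cart D j c + x * RootVecTab.cart D i c ≤ 8 * y + 8 * x + k := e3
      have e4' : 8 * y + 8 * x ≤ y * RootVecTab.cart D j c + x * RootVecTab.cart D i c + k := e4
      zify at e3' e4'
      constructor <;> linarith
  · refine ⟨i, hi, j, hj, -x, y, ?_, ?_, ?_⟩
    · rw [h1, h2]
      have e1' : y * RootVecTab.cart D j b + 8 * x = x * RootVecTab.cart D i b + 8 * y := e1
      zify at e1'
      linarith
    · rw [h3, h4]
      have e2' : y * RootVecTab.cart D j c + 8 * x ≠ x * RootVecTab.cart D i c + 8 * y := e2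
      intro h0
      apply e2'
      zify
      linarith
    · rw [h3, h4, abs_le]
      have e3' : y * RootVecTab.cart D j c + 8 * x ≤ x * RootVecTab.cart D i c + 8 * y + k := e3
      have e4' : x * RootVecTab.cart D i c + 8 * y ≤ y * RootVecTab.cart D j c + 8 * x + k := e4
      zify at e3' e4'
      constructor <;> linarith

theorem sepZ_of_sep (h : RootVecTab.Checked D) {k b c : ℕ}
    (hb : b < D.nroots) (hc : c < D.nroots) (hs : WCTab.sep D k b c = true) : SepZ D k b c := by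
  unfold WCTab.sep at hs
  rw [Bool.or_eq_true, RootVec.anyLT_iff, RootVec.anyLT_iff] at hs
  rcases hs with ⟨j, hj, hs⟩ | ⟨x, -, hs⟩
  · exact sepZ_of_sepX h (by omega) hj hb hc hs
  · obtain ⟨y, -, hs⟩ := (RootVec.anyLT_iff _ _).1 hs
    obtain ⟨j, hj, hs⟩ := (RootVec.anyLT_iff _ _).1 hs
    obtain ⟨i, hi, hs⟩ := (RootVec.anyLT_iff _ _).1 hs
    exact sepZ_of_sepX h hi hj hb hc hs

def Act (D : ChevalleyDatum) (b : ℕ) : Prop :=
  ∃ i < D.rank, D.cartan i b = 1 ∨ D.cartan i b = -1 ∨ D.cartan i b = 2 ∨ D.cartan i b = -2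

theorem act_sound (h : RootVecTab.Checked D) {b : ℕ} (hb : b < D.nroots) (hs : WCTab.act D b = true) : Act D b := by
  unfold WCTab.act at hs
  obtain ⟨i, hi, hs⟩ := (RootVec.anyLT_iff _ _).1 hs
  rw [near_iff] at hs
  have h1 := RootVec.cartan_eq_cart h hi hb
  exact ⟨i, hi, by omega⟩

theorem chkSep_sound (h : RootVecTab.Checked D) {k lo n : ℕ} (hn : D.nroots ≤ lo + n) (hs : WCTab.chkSep D k lo n = true) {b : ℕ}
    (hlo : lo ≤ b) (hb : b < D.nroots) : Act D b ∧ ∀ c, b < c → c < D.nroots → SepZ D k b c := by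
  unfold WCTab.chkSep at hs
  have h1 := (RootVec.allLT_iff _ _).1 hs (b - lo) (by omega)
  have eb : Nat.add lo (b - lo) = b := by show lo + (b - lo) = b; omega
  simp only [eb, Bool.and_eq_true] at h1
  refine ⟨act_sound h hb h1.1, fun c hc hc' => ?_⟩
  have h2 := (RootVec.allLT_iff _ _).1 h1.2 (c - b - 1) (by show c - b - 1 < D.nroots - 1 - b; omega)
  have ec : Nat.add b (Nat.succ (c - b - 1)) = c := by show b + (c - b - 1 + 1) = c; omega
  rw [ec] at h2
  exact sepZ_of_sep h hb hc' h2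

theorem chkSepG_sound (h : RootVecTab.Checked D) {k lo n : ℕ} (hn : D.nroots ≤ lo + n) (hs : WCTab.chkSepG D k lo n = true) {b : ℕ}
    (hlo : lo ≤ b) (hb : b < D.nroots) : ∀ c, b < c → c < D.nroots → SepZ D k b c ∨
      (b = 6 ∧ c = 10) ∨ (b = 6 ∧ c = 11) ∨ (b = 10 ∧ c = 11) := by
  unfold WCTab.chkSepG at hs
  have h1 := (RootVec.allLT_iff _ _).1 hs (b - lo) (by omega)
  have eb : Nat.add lo (b - lo) = b := by show lo + (b - lo) = b; omega
  simp only [eb, Bool.and_eq_true] at h1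
  intro c hc hc'
  have h2 := (RootVec.allLT_iff _ _).1 h1.2 (c - b - 1) (by show c - b - 1 < D.nroots - 1 - b; omega)
  have ec : Nat.add b (Nat.succ (c - b - 1)) = c := by show b + (c - b - 1 + 1) = c; omega
  simp only [ec, Bool.or_eq_true, Bool.and_eq_true, RootVec.beq_iff] at h2
  rcases h2 with ((h2 | h2) | h2) | h2
  · exact Or.inl (sepZ_of_sep h hb hc' h2)
  · exact Or.inr (Or.inl h2)
  · exact Or.inr (Or.inr (Or.inl h2))
  · exact Or.inr (Or.inr (Or.inr h2))

/-- In a field with more than `k + 1` elements some `λ` has `λ ^ m ≠ 1` for `0 < |m| ≤ k`. -/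
theorem exists_lam [Fintype F] {k : ℕ} (hk : k + 1 < Fintype.card F) :
    ∃ l : F, l ≠ 0 ∧ ∀ m : ℤ, m ≠ 0 → |m| ≤ k → l ^ m ≠ 1 := by
  classical
  obtain ⟨g, hg⟩ := IsCyclic.exists_generator (α := Fˣ)
  refine ⟨g, g.ne_zero, fun m hm hmk h1 => ?_⟩
  have h2 : g ^ m = 1 := Units.ext (by rw [Units.val_zpow_eq_zpow_val]; exact h1)
  have h3 : ((orderOf g : ℕ) : ℤ) ∣ m := orderOf_dvd_iff_zpow_eq_one.2 h2
  rw [orderOf_eq_card_of_forall_mem_zpowers hg, Nat.card_eq_fintype_card, Fintype.card_units] at h3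
  have h4 := Int.le_of_dvd (abs_pos.2 hm) ((dvd_abs _ _).2 h3)
  omega

theorem sep_of_sepZ {hD : InList D} {X : Subgroup (GL D.Idx F)} (hX : TStable hD X) {k b c : ℕ} {l : F} (hl : l ≠ 0)
    (hlm : ∀ m : ℤ, m ≠ 0 → |m| ≤ k → l ^ m ≠ 1) (hs : SepZ D k b c) : Sep hD X b c := by
  obtain ⟨i, hi, j, hj, x, y, h0, h1, h2⟩ := hs
  have hx : l ^ x ≠ 0 := zpow_ne_zero _ hl
  have hy : l ^ y ≠ 0 := zpow_ne_zero _ hl
  have key : ∀ s, (l ^ x) ^ (D.cartan i s) * (l ^ y) ^ (D.cartan j s) =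
      l ^ (x * D.cartan i s + y * D.cartan j s) := by
    intro s
    rw [zpow_add₀ hl, zpow_mul, zpow_mul]
  refine ⟨_, _, (tor_hG hD hi hx).mul (tor_hG hD hj hy), (hX.torus i hi _ hx).mul (hX.torus j hj _ hy), ?_, ?_⟩
  · show (l ^ x) ^ (D.cartan i b) * (l ^ y) ^ (D.cartan j b) = 1
    rw [key, h0, zpow_zero]
  · show (l ^ x) ^ (D.cartan i c) * (l ^ y) ^ (D.cartan j c) ≠ 1
    rw [key]
    exact hlm _ h1 h2

end Cfsg.Agent.H96.WeakClosed
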